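import Cfsg.Agent.H721.SR.Orth
import Cfsg.Agent.H160.QSplit

/-!
# Orthogonal sums and the predicate `T`

* `T_pr`, `T_cj`, `T_neg` : orthogonal sums, isometries, multiplication by `-1`;
* `perp`, `isCompl_perp`, `split_perp` : splitting off a nondegenerate invariant subspace;
* `cpiece_restrict`, `ppiece_restrict` : pieces in the subspace they generate;
* `T_of_split` : the combination.
-/

set_option autoImplicit false

namespace Cfsg.Agent.H4.SR

open Polynomial Module QuadraticMap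
open Cfsg.Agent.LieClassical.OrthCore Cfsg.Agent.H160.QSpin Cfsg.Agent.H160.QDisc Cfsg.Agent.H160.QSplit
open Cfsg.Agent.H721.SR

variable {F V W : Type*} [Field F] [AddCommGroup V] [Module F V] [AddCommGroup W] [Module F W]

/-! ### sums -/

theorem pr_inv (g : V ≃ₗ[F] V) (h : W ≃ₗ[F] W) : (pr g h)⁻¹ = pr g⁻¹ h⁻¹ := rfl

theorem cj_inv (e : V ≃ₗ[F] W) (g : V ≃ₗ[F] V) : (cj e g)⁻¹ = cj e g⁻¹ := rfl

/-- orthogonal sums -/
theorem T_pr [Finite F] [Module.Finite F V] [Module.Finite F W] [Finite V] [Finite W] [Finite (V × W)]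
    (h2 : (2 : F) ≠ 0) {Q₁ : QuadraticForm F V} {Q₂ : QuadraticForm F W} (hQ₁ : Nondeg Q₁) (hQ₂ : Nondeg Q₂)
    {g₁ : V ≃ₗ[F] V} {g₂ : W ≃ₗ[F] W} {δ₁ δ₂ : Fˣ} {s₁ s₂ : ℤˣ} (h₁ : T Q₁ g₁ δ₁ s₁) (h₂ : T Q₂ g₂ δ₂ s₂) :
    T (Q₁.prod Q₂) (pr g₁ g₂) (δ₁ * δ₂) (s₁ * s₂) := by
  obtain ⟨k₁, hO₁, hsq₁, hc₁, hd₁, hs₁⟩ := h₁
  obtain ⟨k₂, hO₂, hsq₂, hc₂, hd₂, hs₂⟩ := h₂
  refine ⟨pr k₁ k₂, pr_mem_O hO₁ hO₂, ?_, ?_, ?_, ?_⟩
  · rw [← pr_mul, hsq₁, hsq₂, pr_one]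
  · rw [pr_inv, pr_inv, ← pr_mul, ← pr_mul, hc₁, hc₂]
  · rw [det_pr, hd₁, hd₂]
  · rw [spin_pr h2 hQ₁ hQ₂ hO₁ hO₂, hs₁, hs₂]

/-- isometries -/
theorem T_cj [Finite V] [Finite W] {Q : QuadraticForm F V} {Q' : QuadraticForm F W} {e : V ≃ₗ[F] W}
    (he : IsIso Q Q' e) {g : V ≃ₗ[F] V} {δ : Fˣ} {s : ℤˣ} (h : T Q g δ s) : T Q' (cj e g) δ s := by
  obtain ⟨k, hO, hsq, hc, hd, hs⟩ := h
  refine ⟨cj e k, cj_mem_O he hO, ?_, ?_, ?_, ?_⟩
  · rw [← cj_mul, hsq, cj_one]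
  · rw [cj_inv, cj_inv, ← cj_mul, ← cj_mul, hc]
  · rw [det_cj, hd]
  · rw [spin_cj he hO, hs]

/-- the spinor sign of `-1` -/
theorem spin_neg [Finite V] [Fintype F] [DecidableEq F] [FiniteDimensional F V] (h2 : (2 : F) ≠ 0)
    {Q : QuadraticForm F V} (hQ : Nondeg Q) :
    ((spin Q ⟨LinearEquiv.neg F, neg_mem_O Q⟩ : ℤˣ) : ℤ) = (-quadraticChar F 2) ^ finrank F V * dc Q := by
  obtain ⟨Q', e, hee⟩ := exists_iso_fin Q
  have h3 := spin_cj hee (neg_mem_O _)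
  have h4 : (⟨cj e (LinearEquiv.neg F), cj_mem_O hee (neg_mem_O _)⟩ : O Q') =
      ⟨LinearEquiv.neg F, neg_mem_O Q'⟩ := Subtype.ext (cj_neg e)
  rw [h4] at h3
  rw [← h3, spin_neg_one_aux h2 _ Q' (hee.nondeg hQ), dc_iso hee]

theorem det_neg [FiniteDimensional F V] :
    LinearEquiv.det (LinearEquiv.neg F : V ≃ₗ[F] V) = (-1) ^ finrank F V := by
  apply Units.ext
  rw [LinearEquiv.coe_det]
  have h : ((LinearEquiv.neg F : V ≃ₗ[F] V) : V →ₗ[F] V) = (-1 : F) • LinearMap.id := by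
    ext x
    simp
  rw [h, LinearMap.det_smul, LinearMap.det_id]
  simp

theorem neg_mul_comm' (h : V ≃ₗ[F] V) : (LinearEquiv.neg F : V ≃ₗ[F] V) * h = h * LinearEquiv.neg F := by
  ext x
  change -(h x) = h (-x)
  rw [map_neg]

theorem neg_mul_neg_one : (LinearEquiv.neg F : V ≃ₗ[F] V) * LinearEquiv.neg F = 1 := by
  ext x
  change -(-x) = x
  rw [neg_neg]

/-- multiplication of the inverting involution by `-1` -/
theorem T_neg [Finite V] [Fintype F] [DecidableEq F] [FiniteDimensional F V] (h2 : (2 : F) ≠ 0)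
    {Q : QuadraticForm F V} (hQ : Nondeg Q) {g : V ≃ₗ[F] V} {δ : Fˣ} {s t : ℤˣ} (h : T Q g δ s)
    (ht : (t : ℤ) = (-quadraticChar F 2) ^ finrank F V * dc Q) : T Q g (δ * (-1) ^ finrank F V) (s * t) := by
  obtain ⟨k, hO, hsq, hc, hd, hs⟩ := h
  have hN : (LinearEquiv.neg F : V ≃ₗ[F] V)⁻¹ = LinearEquiv.neg F := inv_eq_of_mul_eq_one_left neg_mul_neg_one
  refine ⟨k * LinearEquiv.neg F, (O Q).mul_mem hO (neg_mem_O Q), ?_, ?_, ?_, ?_⟩
  · calc k * LinearEquiv.neg F * (k * LinearEquiv.neg F) = k * (LinearEquiv.neg F * k) * LinearEquiv.neg F := by group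
      _ = (k * k) * (LinearEquiv.neg F * LinearEquiv.neg F) := by rw [neg_mul_comm']; group
      _ = 1 := by rw [hsq, neg_mul_neg_one, one_mul]
  · calc k * LinearEquiv.neg F * g * (k * LinearEquiv.neg F)⁻¹ =
          k * (LinearEquiv.neg F * g) * (LinearEquiv.neg F)⁻¹ * k⁻¹ := by group
      _ = k * g * k⁻¹ := by rw [neg_mul_comm']; group
      _ = g⁻¹ := hc
  · rw [map_mul, hd, det_neg]
  · have h3 : (⟨k * LinearEquiv.neg F, (O Q).mul_mem hO (neg_mem_O Q)⟩ : O Q) =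
        ⟨k, hO⟩ * ⟨LinearEquiv.neg F, neg_mem_O Q⟩ := rfl
    rw [h3, map_mul, hs]
    congr 1
    apply Units.ext
    rw [spin_neg h2 hQ, ht]

/-- even dimension: the sign of `-1` is the class -/
theorem T_neg_even [Finite V] [Fintype F] [DecidableEq F] [FiniteDimensional F V] (h2 : (2 : F) ≠ 0)
    {Q : QuadraticForm F V} (hQ : Nondeg Q) (hev : Even (finrank F V)) {g : V ≃ₗ[F] V} {δ : Fˣ} {s t : ℤˣ}
    (h : T Q g δ s) (ht : (t : ℤ) = dc Q) : T Q g δ (s * t) := by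
  have h1 := T_neg h2 hQ h (t := t) (by
    obtain ⟨k, hk⟩ := hev
    have h5 : quadraticChar F 2 * quadraticChar F 2 = 1 := by
      rw [← pow_two, quadraticChar_sq_one h2]
    rw [hk, ← two_mul, pow_mul, pow_two, neg_mul_neg, h5, one_pow, one_mul, ht])
  rwa [hev.neg_one_pow, mul_one] at h1

/-! ### splitting -/

/-- the orthogonal complement -/
def perp (Q : QuadraticForm F V) (U : Submodule F V) : Submodule F V where
  carrier := {x | ∀ y ∈ U, polar Q x y = 0}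
  add_mem' := fun {a b} ha hb y hy => by rw [polar_add_left, ha y hy, hb y hy, add_zero]
  zero_mem' := fun y _ => by rw [polar_zero_left]
  smul_mem' := fun c x hx y hy => by rw [polar_smul_left, hx y hy, smul_zero]

theorem mem_perp {Q : QuadraticForm F V} {U : Submodule F V} {x : V} : x ∈ perp Q U ↔ ∀ y ∈ U, polar Q x y = 0 :=
  Iff.rfl

/-- restriction of a form -/
abbrev rs (Q : QuadraticForm F V) (U : Submodule F V) : QuadraticForm F U := Q.comp U.subtype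

theorem rs_apply (Q : QuadraticForm F V) (U : Submodule F V) (x : U) : rs Q U x = Q x := rfl

theorem polar_rs (Q : QuadraticForm F V) (U : Submodule F V) (x y : U) : polar (rs Q U) x y = polar Q (x : V) y := rfl

theorem nondeg_rs {Q : QuadraticForm F V} {U : Submodule F V} (hU : NdOn (polarBilin Q) U) : Nondeg (rs Q U) := by
  intro x hx
  apply Subtype.ext
  exact hU x x.2 fun y hy => hx ⟨y, hy⟩

theorem isCompl_perp [FiniteDimensional F V] {Q : QuadraticForm F V} {U : Submodule F V}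
    (hU : NdOn (polarBilin Q) U) : IsCompl U (perp Q U) := by
  constructor
  · rw [Submodule.disjoint_def]
    exact fun x hx hp => hU x hx hp
  · rw [codisjoint_iff, eq_top_iff]
    intro x _
    -- the functional `polar Q x` on `U` is represented by `u ∈ U`
    let f : U →ₗ[F] Module.Dual F U := (polarBilin (rs Q U))
    have hf : Function.Injective f := by
      rw [← LinearMap.ker_eq_bot, LinearMap.ker_eq_bot']
      intro u hu
      exact nondeg_rs hU u fun y => LinearMap.congr_fun hu y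
    have hs : Function.Surjective f :=
      (LinearMap.injective_iff_surjective_of_finrank_eq_finrank (Subspace.dual_finrank_eq).symm).1 hf
    obtain ⟨u, hu⟩ := hs ((polarBilin Q x).comp U.subtype)
    have h1 : ∀ y ∈ U, polar Q (u : V) y = polar Q x y := fun y hy => LinearMap.congr_fun hu ⟨y, hy⟩
    have h3 : x - u ∈ perp Q U := by
      intro y hy
      rw [polar_sub_left, h1 y hy, sub_self]
    have h4 : x = u + (x - u) := by abel
    rw [h4]
    exact Submodule.add_mem_sup u.2 h3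

theorem nd_perp [FiniteDimensional F V] {Q : QuadraticForm F V} (hQ : Nondeg Q) {U : Submodule F V}
    (hU : NdOn (polarBilin Q) U) : NdOn (polarBilin Q) (perp Q U) := by
  intro x hx h
  apply hQ
  intro y
  have hy : y ∈ U ⊔ perp Q U := by rw [(isCompl_perp hU).sup_eq_top]; trivial
  obtain ⟨a, ha, b, hb, rfl⟩ := Submodule.mem_sup.1 hy
  rw [polar_add_right, hx a ha, zero_add]
  exact h b hb

theorem perp_inv [FiniteDimensional F V] {Q : QuadraticForm F V} {g : V ≃ₗ[F] V} (hg : g ∈ O Q) {U : Submodule F V}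
    (hU : ∀ x ∈ U, g x ∈ U) : ∀ x ∈ perp Q U, g x ∈ perp Q U := by
  intro x hx y hy
  -- `g` is surjective on `U`
  have hinj : Function.Injective ((g : V →ₗ[F] V).restrict hU) := fun a b hab =>
    Subtype.ext (g.injective (congrArg Subtype.val hab))
  obtain ⟨z, hz⟩ := (LinearMap.injective_iff_surjective.1 hinj) ⟨y, hy⟩
  have hz' : g (z : V) = y := congrArg Subtype.val hz
  rw [← hz', polar_map hg]
  exact hx z z.2

theorem finrank_perp [FiniteDimensional F V] {Q : QuadraticForm F V} {U : Submodule F V}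
    (hU : NdOn (polarBilin Q) U) : finrank F U + finrank F (perp Q U) = finrank F V :=
  Submodule.finrank_add_eq_of_isCompl (isCompl_perp hU)

/-- **splitting off a nondegenerate invariant subspace** -/
theorem split_perp [FiniteDimensional F V] {Q : QuadraticForm F V} (hQ : Nondeg Q) {g : V ≃ₗ[F] V} (hg : g ∈ O Q)
    {U : Submodule F V} (hU : NdOn (polarBilin Q) U) (hgU : ∀ x ∈ U, g x ∈ U) :
    ∃ (g₁ : U ≃ₗ[F] U) (g₂ : perp Q U ≃ₗ[F] perp Q U) (e : (U × perp Q U) ≃ₗ[F] V),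
      IsIso ((rs Q U).prod (rs Q (perp Q U))) Q e ∧ g = cj e (pr g₁ g₂) ∧
      (∀ x, (g₁ x : V) = g x) ∧ (∀ x, (g₂ x : V) = g x) ∧ Nondeg (rs Q U) ∧ Nondeg (rs Q (perp Q U)) ∧
      g₁ ∈ O (rs Q U) ∧ g₂ ∈ O (rs Q (perp Q U)) ∧ finrank F U + finrank F (perp Q U) = finrank F V := by
  obtain ⟨g₁, g₂, e, he, hge, h1, h2⟩ := split_of_compl (Q := Q) (g := g) (isCompl_perp hU)
    (fun x hx y hy => by rw [polar_comm]; exact hy x hx) hgU (perp_inv hg hgU)
  refine ⟨g₁, g₂, e, he, hge, h1, h2, nondeg_rs hU, nondeg_rs (nd_perp hQ hU), ?_, ?_, finrank_perp hU⟩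
  · intro x
    rw [rs_apply, rs_apply, h1, mem_O.1 hg]
  · intro x
    rw [rs_apply, rs_apply, h2, mem_O.1 hg]

/-! ### restriction of pieces -/

theorem zpow_coe {U : Submodule F V} {g : V ≃ₗ[F] V} {g₁ : U ≃ₗ[F] U} (h : ∀ x, (g₁ x : V) = g x) (i : ℤ) (x : U) :
    (((g₁ ^ i) x : U) : V) = (g ^ i) (x : V) := by
  have hnat : ∀ (n : ℕ) (x : U), (((g₁ ^ n) x : U) : V) = (g ^ n) (x : V) := by
    intro n
    induction n with
    | zero => intro x; rfl
    | succ n ih =>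
      intro x
      rw [pow_succ, pow_succ]
      change (((g₁ ^ n) (g₁ x) : U) : V) = (g ^ n) (g (x : V))
      rw [ih, h]
  have hinv : ∀ x : U, ((g₁⁻¹ x : U) : V) = g⁻¹ (x : V) := by
    intro x
    apply g.injective
    have h3 : g ((g₁⁻¹ x : U) : V) = (g₁ (g₁⁻¹ x) : U) := (h _).symm
    rw [h3]
    have h4 : g₁ (g₁⁻¹ x) = x := g₁.apply_symm_apply x
    have h5 : g (g⁻¹ (x : V)) = x := g.apply_symm_apply _
    rw [h4, h5]
  have hninv : ∀ (n : ℕ) (x : U), (((g₁⁻¹ ^ n) x : U) : V) = (g⁻¹ ^ n) (x : V) := by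
    intro n
    induction n with
    | zero => intro x; rfl
    | succ n ih =>
      intro x
      rw [pow_succ, pow_succ]
      change (((g₁⁻¹ ^ n) (g₁⁻¹ x) : U) : V) = (g⁻¹ ^ n) (g⁻¹ (x : V))
      rw [ih, hinv]
  rcases i with n | n
  · have e1 : g₁ ^ (Int.ofNat n) = g₁ ^ n := zpow_natCast _ _
    have e2 : g ^ (Int.ofNat n) = g ^ n := zpow_natCast _ _
    rw [e1, e2, hnat]
  · rw [zpow_negSucc, zpow_negSucc, ← inv_pow, ← inv_pow, hninv]

theorem aeval_coe {U : Submodule F V} {g : V ≃ₗ[F] V} {g₁ : U ≃ₗ[F] U} (h : ∀ x, (g₁ x : V) = g x) (p : F[X]) (x : U) :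
    ((aeval (g₁ : U →ₗ[F] U) p x : U) : V) = aeval (g : V →ₗ[F] V) p (x : V) := by
  induction p using Polynomial.induction_on' with
  | add p q hp hq => rw [map_add, map_add, LinearMap.add_apply, LinearMap.add_apply, Submodule.coe_add, hp, hq]
  | monomial n c =>
    rw [aeval_monomial, aeval_monomial, Module.End.mul_apply, Module.End.mul_apply, Module.algebraMap_end_apply,
      Module.algebraMap_end_apply, Submodule.coe_smul]
    congr 1
    induction n with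
    | zero => rfl
    | succ n ih =>
      rw [pow_succ', pow_succ', Module.End.mul_apply, Module.End.mul_apply, ← ih]
      exact h _

/-- generators of the cyclic subspace -/
theorem zpow_mem_cyc (g : V ≃ₗ[F] V) (v : V) (i : ℤ) : (g ^ i) v ∈ cyc g v := Submodule.subset_span ⟨i, rfl⟩

theorem self_mem_cyc (g : V ≃ₗ[F] V) (v : V) : v ∈ cyc g v := by
  have := zpow_mem_cyc g v 0
  rwa [zpow_zero] at this

theorem zpow_add_apply (g : V ≃ₗ[F] V) (i j : ℤ) (v : V) : (g ^ (i + j)) v = (g ^ i) ((g ^ j) v) := by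
  rw [zpow_add]; rfl

theorem zpow_one_add_apply (g : V ≃ₗ[F] V) (j : ℤ) (v : V) : (g ^ (1 + j)) v = g ((g ^ j) v) := by
  rw [zpow_add_apply, zpow_one]

/-- the cyclic subspace is invariant -/
theorem cyc_inv (g : V ≃ₗ[F] V) (v : V) : ∀ x ∈ cyc g v, g x ∈ cyc g v := by
  have : cyc g v ≤ (cyc g v).comap (g : V →ₗ[F] V) := by
    rw [cyc, Submodule.span_le]
    rintro _ ⟨i, rfl⟩
    change g ((g ^ i) v) ∈ cyc g v
    rw [← zpow_one_add_apply]
    exact zpow_mem_cyc g v _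
  exact this

theorem sup_cyc_inv (g : V ≃ₗ[F] V) (v w : V) : ∀ x ∈ cyc g v ⊔ cyc g w, g x ∈ cyc g v ⊔ cyc g w := by
  intro x hx
  obtain ⟨a, ha, b, hb, rfl⟩ := Submodule.mem_sup.1 hx
  rw [map_add]
  exact Submodule.add_mem_sup (cyc_inv g v a ha) (cyc_inv g w b hb)

/-- the cyclic subspace of the restriction -/
theorem cyc_restrict {U : Submodule F V} {g : V ≃ₗ[F] V} {g₁ : U ≃ₗ[F] U} (h : ∀ x, (g₁ x : V) = g x) (v : U) :
    (cyc g₁ v).map U.subtype = cyc g (v : V) := by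
  unfold cyc
  rw [Submodule.map_span]
  congr 1
  ext x
  constructor
  · rintro ⟨_, ⟨i, rfl⟩, rfl⟩
    exact ⟨i, (zpow_coe h i v).symm⟩
  · rintro ⟨i, rfl⟩
    exact ⟨_, ⟨i, rfl⟩, zpow_coe h i v⟩

theorem ann_restrict {U : Submodule F V} {g : V ≃ₗ[F] V} {g₁ : U ≃ₗ[F] U} (h : ∀ x, (g₁ x : V) = g x) {v : U}
    {m : F[X]} (ha : Ann g (v : V) m) : Ann g₁ v m := by
  intro p
  rw [← ha p, ← aeval_coe h, ZeroMemClass.coe_eq_zero]

theorem inv_coe {U : Submodule F V} {g : V ≃ₗ[F] V} {g₁ : U ≃ₗ[F] U} (h : ∀ x, (g₁ x : V) = g x) (x : U) :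
    ((g₁⁻¹ x : U) : V) = g⁻¹ (x : V) := by
  have := zpow_coe h (-1) x
  rwa [zpow_neg_one, zpow_neg_one] at this

/-- a cyclic piece in the subspace it generates -/
theorem cpiece_restrict {Q : QuadraticForm F V} {g : V ≃ₗ[F] V} {f : F[X]} {k : ℕ} {v : V}
    (hp : CPiece (polarBilin Q) g f k v) {g₁ : cyc g v ≃ₗ[F] cyc g v} (h : ∀ x, (g₁ x : V) = g x) :
    CPiece (polarBilin (rs Q (cyc g v))) g₁ f k ⟨v, self_mem_cyc g v⟩ ∧ cyc g₁ ⟨v, self_mem_cyc g v⟩ = ⊤ := by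
  have htop : cyc g₁ ⟨v, self_mem_cyc g v⟩ = ⊤ := by
    apply Submodule.map_injective_of_injective (cyc g v).injective_subtype
    rw [cyc_restrict h, Submodule.map_top, Submodule.range_subtype]
  refine ⟨⟨hp.irr, hp.pos, ann_restrict h hp.ann, ?_⟩, htop⟩
  rw [htop]
  intro x _ hx
  apply Subtype.ext
  exact hp.nd x x.2 fun y hy => hx ⟨y, hy⟩ trivial

/-- a pair piece in the subspace it generates -/
theorem ppiece_restrict {Q : QuadraticForm F V} {g : V ≃ₗ[F] V} {f : F[X]} {k : ℕ} {v w : V}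
    (hp : PPiece (polarBilin Q) g f k v w) {U : Submodule F V} (hU : U = cyc g v ⊔ cyc g w) {g₁ : U ≃ₗ[F] U}
    (h : ∀ x, (g₁ x : V) = g x) : ∃ (hv : v ∈ U) (hw : w ∈ U),
    PPiece (polarBilin (rs Q U)) g₁ f k ⟨v, hv⟩ ⟨w, hw⟩ ∧ cyc g₁ ⟨v, hv⟩ ⊔ cyc g₁ ⟨w, hw⟩ = ⊤ := by
  have hv : v ∈ U := by rw [hU]; exact Submodule.mem_sup_left (self_mem_cyc g v)
  have hw : w ∈ U := by rw [hU]; exact Submodule.mem_sup_right (self_mem_cyc g w)
  have e1 : (cyc g₁ ⟨v, hv⟩).map U.subtype = cyc g v := cyc_restrict h ⟨v, hv⟩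
  have e2 : (cyc g₁ ⟨w, hw⟩).map U.subtype = cyc g w := cyc_restrict h ⟨w, hw⟩
  have htop : cyc g₁ ⟨v, hv⟩ ⊔ cyc g₁ ⟨w, hw⟩ = ⊤ := by
    apply Submodule.map_injective_of_injective U.injective_subtype
    rw [Submodule.map_sup, e1, e2, Submodule.map_top, Submodule.range_subtype, hU]
  have hiso : ∀ (z : U), Iso0 (polarBilin Q) (cyc g (z : V)) → Iso0 (polarBilin (rs Q U)) (cyc g₁ z) := by
    intro z hz x hx y hy
    have hx' : (x : V) ∈ cyc g (z : V) := by rw [← cyc_restrict h z]; exact ⟨x, hx, rfl⟩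
    have hy' : (y : V) ∈ cyc g (z : V) := by rw [← cyc_restrict h z]; exact ⟨y, hy, rfl⟩
    exact hz x hx' y hy'
  have hinv : ∀ x, ((g₁⁻¹ x : U) : V) = g⁻¹ x := inv_coe h
  refine ⟨hv, hw, ⟨hp.irr, hp.pos, ann_restrict h (v := ⟨v, hv⟩) hp.annv,
    ann_restrict hinv (v := ⟨w, hw⟩) hp.annw, hiso ⟨v, hv⟩ hp.isov, hiso ⟨w, hw⟩ hp.isow, ?_⟩, htop⟩
  rw [htop]
  intro x _ hx
  apply Subtype.ext
  refine hp.nd x (by rw [← hU]; exact x.2) fun y hy => ?_
  rw [← hU] at hy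
  exact hx ⟨y, hy⟩ trivial

/-- **`T` and splittings** -/
theorem T_of_split [Finite F] [Finite V] [FiniteDimensional F V] (h2 : (2 : F) ≠ 0) {Q : QuadraticForm F V}
    {g : V ≃ₗ[F] V} {U : Submodule F V} {g₁ : U ≃ₗ[F] U} {g₂ : perp Q U ≃ₗ[F] perp Q U}
    {e : (U × perp Q U) ≃ₗ[F] V} (he : IsIso ((rs Q U).prod (rs Q (perp Q U))) Q e)
    (hge : g = cj e (pr g₁ g₂)) (hn₁ : Nondeg (rs Q U)) (hn₂ : Nondeg (rs Q (perp Q U)))
    {δ₁ δ₂ : Fˣ} {s₁ s₂ : ℤˣ} (h₁ : T (rs Q U) g₁ δ₁ s₁) (h₂ : T (rs Q (perp Q U)) g₂ δ₂ s₂) :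
    T Q g (δ₁ * δ₂) (s₁ * s₂) := by
  rw [hge]
  exact T_cj he (T_pr h2 hn₁ hn₂ h₁ h₂)

/-- the class of an orthogonal sum -/
theorem dc_split [Fintype F] [DecidableEq F] [FiniteDimensional F V] {Q : QuadraticForm F V} {U : Submodule F V}
    {e : (U × perp Q U) ≃ₗ[F] V} (he : IsIso ((rs Q U).prod (rs Q (perp Q U))) Q e) :
    dc Q = dc (rs Q U) * dc (rs Q (perp Q U)) := by
  rw [dc_iso he, dc_prod]

end Cfsg.Agent.H4.SR
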