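import Cfsg.Agent.H4.SR.Lag

/-!
# E pieces (task SR-OODD_E)

* `epiece_cyc`  : a cyclic space for `f ^ k`, `k` even, `f` not dividing `X ^ 2 - 1`;
* `epiece_pair` : a pair for `f ^ k`, `k` even, `f` arbitrary.
In both cases the dimension is `4 j`, the class is one and `g` is inverted by an isometric involution of determinant
one and spinor sign `χ(-1) ^ j`.
-/

set_option autoImplicit false

namespace Cfsg.Agent.H4.SR

open Module QuadraticMap Polynomial
open Cfsg.Agent.LieClassical.OrthCore Cfsg.Agent.H160.QSpin Cfsg.Agent.H160.QDisc Cfsg.Agent.H160.QSplit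
open Cfsg.Agent.H721.SR

variable {F V : Type*} [Field F] [AddCommGroup V] [Module F V]

section poly

/-- the inverse is a power -/
theorem exists_inv_pow [Finite V] (g : V ≃ₗ[F] V) : ∃ m : ℕ, g⁻¹ = g ^ m := by
  have : Finite (V ≃ₗ[F] V) := Finite.of_injective (fun g : V ≃ₗ[F] V => (g : V → V)) DFunLike.coe_injective
  refine ⟨orderOf g - 1, ?_⟩
  apply inv_eq_of_mul_eq_one_right
  rw [← pow_succ', Nat.sub_add_cancel (orderOf_pos g), pow_orderOf_eq_one]

theorem coe_pow (g : V ≃ₗ[F] V) (n : ℕ) : ((g ^ n : V ≃ₗ[F] V) : Module.End F V) = (g : Module.End F V) ^ n := en_pow g n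

/-- `p(g⁻¹)` is a polynomial in `g` -/
theorem aeval_inv [Finite V] (g : V ≃ₗ[F] V) (p : F[X]) : ∃ q : F[X], ∀ n : ℕ,
    aeval ((g⁻¹ : V ≃ₗ[F] V) : Module.End F V) (p ^ n) = aeval (g : Module.End F V) (q ^ n) := by
  obtain ⟨m, hm⟩ := exists_inv_pow g
  refine ⟨p.comp (X ^ m), fun n => ?_⟩
  have h1 : aeval ((g⁻¹ : V ≃ₗ[F] V) : Module.End F V) p = aeval (g : Module.End F V) (p.comp (X ^ m)) := by
    rw [aeval_comp, map_pow, aeval_X, hm, coe_pow]
  rw [map_pow, map_pow, h1]

theorem zpow_eq_aeval [Finite V] (g : V ≃ₗ[F] V) (i : ℤ) : ∃ p : F[X], ∀ v, (g ^ i) v = aeval (g : Module.End F V) p v := by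
  obtain ⟨m, hm⟩ := exists_inv_pow g
  rcases i with n | n
  · refine ⟨X ^ n, fun v => ?_⟩
    have e2 : g ^ (Int.ofNat n) = g ^ n := zpow_natCast _ _
    rw [e2, map_pow, aeval_X, ← coe_pow]
    rfl
  · refine ⟨X ^ (m * (n + 1)), fun v => ?_⟩
    rw [zpow_negSucc, ← inv_pow, hm, ← pow_mul, map_pow, aeval_X, ← coe_pow]
    rfl

theorem mem_cyc_iff [Finite V] (g : V ≃ₗ[F] V) {v x : V} (hx : x ∈ cyc g v) :
    ∃ p : F[X], aeval (g : Module.End F V) p v = x := by
  unfold cyc at hx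
  induction hx using Submodule.span_induction with
  | mem x hx =>
    obtain ⟨i, rfl⟩ := hx
    obtain ⟨p, hp⟩ := zpow_eq_aeval g i
    exact ⟨p, (hp v).symm⟩
  | zero => exact ⟨0, by rw [map_zero, LinearMap.zero_apply]⟩
  | add x y _ _ hx hy =>
    obtain ⟨p, rfl⟩ := hx
    obtain ⟨q, rfl⟩ := hy
    exact ⟨p + q, by rw [map_add, LinearMap.add_apply]⟩
  | smul c x _ hx =>
    obtain ⟨p, rfl⟩ := hx
    exact ⟨c • p, by rw [map_smul, LinearMap.smul_apply]⟩

theorem aeval_mem_cyc {g : V ≃ₗ[F] V} {v x : V} (p : F[X]) (hx : x ∈ cyc g v) :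
    aeval (g : Module.End F V) p x ∈ cyc g v := by
  induction p using Polynomial.induction_on' with
  | add p q hp hq =>
    rw [map_add, LinearMap.add_apply]
    exact Submodule.add_mem _ hp hq
  | monomial n c =>
    rw [aeval_monomial, Module.End.mul_apply, Module.algebraMap_end_apply]
    apply Submodule.smul_mem
    induction n with
    | zero => exact hx
    | succ n ih =>
      rw [pow_succ', Module.End.mul_apply]
      exact cyc_inv g v _ ih

theorem aeval_comm (T : Module.End F V) (p q : F[X]) (x : V) : aeval T p (aeval T q x) = aeval T q (aeval T p x) := by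
  rw [← Module.End.mul_apply, ← Module.End.mul_apply, ← map_mul, ← map_mul, mul_comm]

theorem aeval_mul_apply (T : Module.End F V) (p q : F[X]) (x : V) : aeval T (p * q) x = aeval T p (aeval T q x) := by
  rw [map_mul]; rfl

theorem cyc_inv_eq (g : V ≃ₗ[F] V) (v : V) : cyc g⁻¹ v = cyc g v := by
  unfold cyc
  congr 1
  ext x
  constructor
  · rintro ⟨i, rfl⟩
    exact ⟨-i, by change (g ^ (-i)) v = (g⁻¹ ^ i) v; rw [inv_zpow', ]⟩
  · rintro ⟨i, rfl⟩
    exact ⟨-i, by change (g⁻¹ ^ (-i)) v = (g ^ i) v; rw [inv_zpow', neg_neg]⟩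

/-- half of a cyclic space -/
theorem finrank_half [Finite V] [FiniteDimensional F V] {g : V ≃ₗ[F] V} {f : F[X]} (hf : Irreducible f) {k : ℕ} {v : V}
    (ha : Ann g v (f ^ (k + k))) :
    finrank F (cyc g v) = 2 * finrank F ((cyc g v).map (aeval (g : Module.End F V) (f ^ k))) := by
  set N := aeval (g : Module.End F V) (f ^ k) with hN
  set A := cyc g v with hA
  let N' : A →ₗ[F] V := N.domRestrict A
  have h1 := N'.finrank_range_add_finrank_ker
  have h2 : LinearMap.range N' = A.map N := by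
    rw [LinearMap.range_domRestrict]
  have h3 : finrank F (LinearMap.ker N') = finrank F (A.map N) := by
    rw [← Submodule.finrank_map_subtype_eq]
    have h4 : (LinearMap.ker N').map A.subtype = A.map N := by
      ext x
      constructor
      · rintro ⟨⟨x, hx⟩, hx2, rfl⟩
        have hx3 : N x = 0 := hx2
        obtain ⟨p, rfl⟩ := mem_cyc_iff g hx
        rw [hN, ← aeval_mul_apply] at hx3
        have h5 := (ha _).1 hx3
        rw [pow_add] at h5
        obtain ⟨q, rfl⟩ := (mul_dvd_mul_iff_left (pow_ne_zero k hf.ne_zero)).1 h5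
        refine ⟨aeval (g : Module.End F V) q v, aeval_mem_cyc q (self_mem_cyc g v), ?_⟩
        change aeval (g : Module.End F V) (f ^ k) (aeval (g : Module.End F V) q v) =
          aeval (g : Module.End F V) (f ^ k * q) v
        rw [aeval_mul_apply]
      · rintro ⟨x, hx, rfl⟩
        refine ⟨⟨N x, aeval_mem_cyc _ hx⟩, ?_, rfl⟩
        change N (N x) = 0
        obtain ⟨p, rfl⟩ := mem_cyc_iff g hx
        rw [hN, ← aeval_mul_apply, ← pow_add, aeval_comm, (ha _).2 dvd_rfl, map_zero]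
    rw [h4]
  rw [h2, h3] at h1
  omega

end poly

section forms

/-- the adjoint of a polynomial -/
theorem polar_aeval {Q : QuadraticForm F V} {g : V ≃ₗ[F] V} (hg : g ∈ O Q) (p : F[X]) (x y : V) :
    polar Q (aeval (g : Module.End F V) p x) y = polar Q x (aeval ((g⁻¹ : V ≃ₗ[F] V) : Module.End F V) p y) := by
  induction p using Polynomial.induction_on' with
  | add p q hp hq => rw [map_add, map_add, LinearMap.add_apply, LinearMap.add_apply, polar_add_left, polar_add_right, hp, hq]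
  | monomial n c =>
    rw [aeval_monomial, aeval_monomial, Module.End.mul_apply, Module.End.mul_apply, Module.algebraMap_end_apply,
      Module.algebraMap_end_apply, polar_smul_left, polar_smul_right]
    congr 1
    induction n generalizing x y with
    | zero => rfl
    | succ n ih =>
      rw [pow_succ', pow_succ, Module.End.mul_apply, Module.End.mul_apply, ← ih]
      exact polar_inv hg _ _

/-- conjugation of polynomials -/
theorem aeval_conj {g h : V ≃ₗ[F] V} (hc : h * g * h⁻¹ = g⁻¹) (p : F[X]) (x : V) :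
    h (aeval (g : Module.End F V) p x) = aeval ((g⁻¹ : V ≃ₗ[F] V) : Module.End F V) p (h x) := by
  have h1 : ∀ x, h (g x) = g⁻¹ (h x) := by
    intro x
    have : h * g = g⁻¹ * h := by rw [← hc]; group
    exact LinearEquiv.congr_fun this x
  induction p using Polynomial.induction_on' with
  | add p q hp hq => rw [map_add, map_add, LinearMap.add_apply, LinearMap.add_apply, map_add, hp, hq]
  | monomial n c =>
    rw [aeval_monomial, aeval_monomial, Module.End.mul_apply, Module.End.mul_apply, Module.algebraMap_end_apply,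
      Module.algebraMap_end_apply, map_smul]
    congr 1
    induction n with
    | zero => rfl
    | succ n ih =>
      rw [pow_succ', pow_succ', Module.End.mul_apply, Module.End.mul_apply, ← ih]
      exact h1 _

theorem conj_inv {g h : V ≃ₗ[F] V} (hc : h * g * h⁻¹ = g⁻¹) : h * g⁻¹ * h⁻¹ = g⁻¹⁻¹ := by
  have : h * g⁻¹ * h⁻¹ = (h * g * h⁻¹)⁻¹ := by group
  rw [this, hc]

theorem mem_O_of_polar (h2 : (2 : F) ≠ 0) {Q : QuadraticForm F V} {h : V ≃ₗ[F] V}
    (H : ∀ x y, polar Q (h x) (h y) = polar Q x y) : h ∈ O Q := isIso_of_polar h2 H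

theorem st_of_nondeg {Q : QuadraticForm F V} (hQ : Nondeg Q) {g : V ≃ₗ[F] V} (hg : g ∈ O Q) :
    St (polarBilin Q) 1 g where
  eps := Or.inl rfl
  symm x y := by rw [one_mul]; exact polar_comm _ _ _
  nondeg x hx := hQ x hx
  isom x y := polar_map hg x y

variable [Finite V] [Fintype F] [DecidableEq F] [FiniteDimensional F V]

/-- **cyclic E pieces** -/
theorem epiece_cyc (h2 : (2 : F) ≠ 0) {Q : QuadraticForm F V} (hQ : Nondeg Q) {g : V ≃ₗ[F] V} (hg : g ∈ O Q)
    {f : F[X]} {k : ℕ} {v : V} (hp : CPiece (polarBilin Q) g f k v) (htop : cyc g v = ⊤) (hf : ¬ f ∣ X ^ 2 - 1)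
    (hk : Even k) : ∃ (j : ℕ) (s : ℤˣ), finrank F V = 4 * j ∧ dc Q = 1 ∧ (s : ℤ) = quadraticChar F (-1) ^ j ∧
      T Q g 1 s := by
  obtain ⟨k', rfl⟩ := hk
  obtain ⟨h, hh, hc, hB, -⟩ := inverter_cyc (st_of_nondeg hQ hg) htop
  have hO : h ∈ O Q := mem_O_of_polar h2 fun x y => by
    have := hB x y
    rwa [one_mul] at this
  have hall : ∀ x : V, ∃ p : F[X], aeval (g : Module.End F V) p v = x := by
    intro x
    apply mem_cyc_iff g
    rw [htop]; trivial
  have hkill : ∀ x : V, aeval (g : Module.End F V) (f ^ (k' + k')) x = 0 := by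
    intro x
    obtain ⟨p, rfl⟩ := hall x
    rw [aeval_comm, (hp.ann _).2 dvd_rfl, map_zero]
  -- `f(g⁻¹) = f(g) q₁(g)`
  obtain ⟨q₀, hq₀⟩ := aeval_inv g f
  have hq1 : f ∣ q₀ := by
    have h3 : aeval (g : Module.End F V) (q₀ ^ (k' + k')) v = 0 := by
      rw [← hq₀]
      apply hQ
      intro y
      rw [polar_comm, ← polar_aeval hg, hkill, polar_zero_left]
    have h4 := (hp.ann _).1 h3
    exact hp.irr.prime.dvd_of_dvd_pow ((dvd_pow_self f (by have := hp.pos; omega)).trans h4)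
  obtain ⟨q₁, rfl⟩ := hq1
  set N := aeval (g : Module.End F V) (f ^ k') with hN
  have hNi : ∀ x, aeval ((g⁻¹ : V ≃ₗ[F] V) : Module.End F V) (f ^ k') x = N (aeval (g : Module.End F V) (q₁ ^ k') x) := by
    intro x
    rw [hq₀, mul_pow, aeval_mul_apply]
  have hNN : ∀ x, N (N x) = 0 := by
    intro x
    rw [hN, ← aeval_mul_apply, ← pow_add]
    exact hkill x
  set L : Submodule F V := LinearMap.range N with hL
  have hd : 2 * finrank F L = finrank F V := by
    have h3 := finrank_half hp.irr hp.ann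
    rw [htop, Submodule.map_top] at h3
    rw [← finrank_top F V, h3]
  have hiso : ∀ x ∈ L, ∀ y ∈ L, polar Q x y = 0 := by
    rintro _ ⟨x, rfl⟩ _ ⟨y, rfl⟩
    rw [hN, polar_aeval hg, hNi, ← hN, aeval_comm, hNN, map_zero, polar_zero_right]
  have hhL : ∀ x ∈ L, h x ∈ L := by
    rintro _ ⟨x, rfl⟩
    rw [hN, aeval_conj hc, hNi]
    exact ⟨_, rfl⟩
  have hginv : ∀ x, h (g x) = g⁻¹ (h x) := by
    intro x
    have : h * g = g⁻¹ * h := by rw [← hc]; group
    exact LinearEquiv.congr_fun this x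
  have hginv' : ∀ x, h (g⁻¹ x) = g (h x) := by
    intro x
    have h3 := hginv (g⁻¹ x)
    have h4 : g (g⁻¹ x) = x := g.apply_symm_apply x
    rw [h4] at h3
    rw [h3]
    exact (g.apply_symm_apply _).symm
  let S : Module.End F V := (g : Module.End F V) - ((g⁻¹ : V ≃ₗ[F] V) : Module.End F V)
  have hS : ∀ x, S x = g x - g⁻¹ x := fun x => rfl
  have hSinj : Function.Injective S := by
    rw [← LinearMap.ker_eq_bot, LinearMap.ker_eq_bot']
    intro x hx
    rw [hS, sub_eq_zero] at hx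
    have h3 : g (g x) = x := by rw [hx]; exact g.apply_symm_apply x
    obtain ⟨p, rfl⟩ := hall x
    have h4 : aeval (g : Module.End F V) ((X ^ 2 - 1) * p) v = 0 := by
      rw [aeval_mul_apply, map_sub, map_pow, aeval_X, map_one, LinearMap.sub_apply, sub_eq_zero, pow_two]
      exact h3
    have h5 := (hp.ann _).1 h4
    have h6 : IsCoprime (f ^ (k' + k')) (X ^ 2 - 1) :=
      IsCoprime.pow_left ((Irreducible.coprime_iff_not_dvd hp.irr).2 hf)
    exact (hp.ann _).2 (h6.dvd_of_dvd_mul_left h5)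
  obtain ⟨j, h3, h4, h5, h6⟩ := lag_inverter h2 hQ hO hh hhL hiso hd hSinj (S := S) (by
      intro x
      rw [hS, hS, map_sub, hginv, hginv']
      abel) (by
      rintro _ ⟨x, rfl⟩
      refine ⟨S x, ?_⟩
      rw [hS, hS, map_sub]
      obtain ⟨m, hm⟩ := exists_inv_pow g
      have e1 : ∀ x, N (g x) = g (N x) := by
        intro x
        have := aeval_comm (g : Module.End F V) (f ^ k') X x
        rwa [aeval_X] at this
      have e2 : N (g⁻¹ x) = g⁻¹ (N x) := by
        apply g.injective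
        rw [← e1]
        have h7 : ∀ z, g (g⁻¹ z) = z := fun z => g.apply_symm_apply z
        rw [h7, h7]
      rw [e1, e2])
  exact ⟨j, spin Q ⟨h, hO⟩, h3, h4, h6, h, hO, hh, hc, h5, rfl⟩

/-- **pair E pieces** -/
theorem epiece_pair (h2 : (2 : F) ≠ 0) {Q : QuadraticForm F V} (hQ : Nondeg Q) {g : V ≃ₗ[F] V} (hg : g ∈ O Q)
    {f : F[X]} {k : ℕ} {v w : V} (hp : PPiece (polarBilin Q) g f k v w) (htop : cyc g v ⊔ cyc g w = ⊤)
    (hk : Even k) : ∃ (j : ℕ) (s : ℤˣ), finrank F V = 4 * j ∧ dc Q = 1 ∧ (s : ℤ) = quadraticChar F (-1) ^ j ∧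
      T Q g 1 s := by
  obtain ⟨k', rfl⟩ := hk
  obtain ⟨h, hh, hc, hB, hv, hw⟩ := inverter_pair (st_of_nondeg hQ hg) hp.isov hp.isow htop
  have hO : h ∈ O Q := mem_O_of_polar h2 fun x y => by
    have := hB x y
    rwa [one_mul] at this
  set A := cyc g v with hA
  set A' := cyc g w with hA'
  have hcompl : IsCompl A A' := by
    constructor
    · rw [Submodule.disjoint_def]
      intro x hx hx'
      apply hQ
      intro y
      have hy : y ∈ A ⊔ A' := by rw [htop]; trivial
      obtain ⟨a, ha, b, hb, rfl⟩ := Submodule.mem_sup.1 hy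
      rw [polar_add_right]
      have e1 : polar Q x a = 0 := hp.isov x hx a ha
      have e2 : polar Q x b = 0 := hp.isow x hx' b hb
      rw [e1, e2, add_zero]
    · rw [codisjoint_iff, htop]
  have hhA : ∀ x ∈ A, h x ∈ A' := by
    have : A ≤ A'.comap (h : Module.End F V) := by
      rw [hA, cyc, Submodule.span_le]
      rintro _ ⟨i, rfl⟩
      change h ((g ^ i) v) ∈ A'
      rw [hv]
      exact zpow_mem_cyc g w _
    exact this
  have hhA' : ∀ x ∈ A', h x ∈ A := by
    have : A' ≤ A.comap (h : Module.End F V) := by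
      rw [hA', cyc, Submodule.span_le]
      rintro _ ⟨i, rfl⟩
      change h ((g ^ i) w) ∈ A
      rw [hw]
      exact zpow_mem_cyc g v _
    exact this
  set N := aeval (g : Module.End F V) (f ^ k') with hN
  set N' := aeval ((g⁻¹ : V ≃ₗ[F] V) : Module.End F V) (f ^ k') with hN'
  have hNA : ∀ x ∈ A, N x ∈ A := fun x hx => aeval_mem_cyc _ hx
  have hNA' : ∀ x ∈ A', N' x ∈ A' := by
    intro x hx
    rw [hA', ← cyc_inv_eq] at hx ⊢
    exact aeval_mem_cyc _ hx
  have hNN : ∀ x ∈ A, N (N x) = 0 := by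
    intro x hx
    obtain ⟨p, rfl⟩ := mem_cyc_iff g hx
    rw [hN, ← aeval_mul_apply, ← pow_add, aeval_comm, (hp.annv _).2 dvd_rfl, map_zero]
  set L₁ := A.map N with hL₁
  set L₂ := A'.map N' with hL₂
  have hL₁A : L₁ ≤ A := by
    rintro _ ⟨x, hx, rfl⟩
    exact hNA x hx
  have hL₂A : L₂ ≤ A' := by
    rintro _ ⟨x, hx, rfl⟩
    exact hNA' x hx
  set L : Submodule F V := L₁ ⊔ L₂ with hL
  have hd : 2 * finrank F L = finrank F V := by
    have h3 : finrank F A = 2 * finrank F L₁ := finrank_half hp.irr hp.annv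
    have h4 : finrank F A' = 2 * finrank F L₂ := by
      have := finrank_half hp.irr hp.annw
      rwa [cyc_inv_eq] at this
    have h5 := Submodule.finrank_add_eq_of_isCompl hcompl
    have h6 := Submodule.finrank_sup_add_finrank_inf_eq L₁ L₂
    have h7 : L₁ ⊓ L₂ = ⊥ := by
      rw [eq_bot_iff]
      intro x hx
      exact (Submodule.disjoint_def.1 hcompl.disjoint) x (hL₁A hx.1) (hL₂A hx.2)
    rw [h7, finrank_bot, ← hL] at h6
    omega
  have c12 : ∀ x ∈ L₁, ∀ y ∈ L₂, polar Q x y = 0 := by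
    rintro _ ⟨x, hx, rfl⟩ _ ⟨y, hy, rfl⟩
    rw [hN', ← polar_aeval hg, ← hN, hNN x hx, polar_zero_left]
  have c11 : ∀ x ∈ L₁, ∀ y ∈ L₁, polar Q x y = 0 := fun x hx y hy => hp.isov x (hL₁A hx) y (hL₁A hy)
  have c22 : ∀ x ∈ L₂, ∀ y ∈ L₂, polar Q x y = 0 := fun x hx y hy => hp.isow x (hL₂A hx) y (hL₂A hy)
  have hiso : ∀ x ∈ L, ∀ y ∈ L, polar Q x y = 0 := by
    intro x hx y hy
    obtain ⟨a, ha, b, hb, rfl⟩ := Submodule.mem_sup.1 hx
    obtain ⟨c, hc', d, hd', rfl⟩ := Submodule.mem_sup.1 hy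
    rw [polar_add_left, polar_add_right, polar_add_right, c11 a ha c hc', c12 a ha d hd', polar_comm Q b c,
      c12 c hc' b hb, c22 b hb d hd']
    ring
  have hhL : ∀ x ∈ L, h x ∈ L := by
    intro x hx
    obtain ⟨_, ⟨a, ha, rfl⟩, _, ⟨b, hb, rfl⟩, rfl⟩ := Submodule.mem_sup.1 hx
    rw [map_add]
    refine L.add_mem (Submodule.mem_sup_right ⟨h a, hhA a ha, ?_⟩) (Submodule.mem_sup_left ⟨h b, hhA' b hb, ?_⟩)
    · rw [hN, aeval_conj hc]
    · rw [hN', aeval_conj (conj_inv hc)]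
      have : (g⁻¹⁻¹ : V ≃ₗ[F] V) = g := inv_inv g
      rw [this]
  let e := Submodule.prodEquivOfIsCompl A A' hcompl
  let S : Module.End F V := (e : (A × A') →ₗ[F] V) ∘ₗ
    (LinearMap.prodMap LinearMap.id (-LinearMap.id)) ∘ₗ (e.symm : V →ₗ[F] (A × A'))
  have he : ∀ (a : A) (b : A'), e (a, b) = a + b := fun a b => Submodule.coe_prodEquivOfIsCompl' A A' hcompl (a, b)
  have hSab : ∀ a ∈ A, ∀ b ∈ A', S (a + b) = a - b := by
    intro a ha b hb
    have h3 : e.symm (a + b) = (⟨a, ha⟩, ⟨b, hb⟩) := by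
      rw [LinearEquiv.symm_apply_eq, he]
    change e (LinearMap.prodMap LinearMap.id (-LinearMap.id) (e.symm (a + b))) = a - b
    rw [h3]
    change e (⟨a, ha⟩, -⟨b, hb⟩) = a - b
    rw [he, Submodule.coe_neg, sub_eq_add_neg]
  have hdec : ∀ x : V, ∃ a ∈ A, ∃ b ∈ A', x = a + b := by
    intro x
    have hx : x ∈ A ⊔ A' := by rw [htop]; trivial
    obtain ⟨a, ha, b, hb, rfl⟩ := Submodule.mem_sup.1 hx
    exact ⟨a, ha, b, hb, rfl⟩
  have hSS : ∀ x, S (S x) = x := by
    intro x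
    obtain ⟨a, ha, b, hb, rfl⟩ := hdec x
    rw [hSab a ha b hb, sub_eq_add_neg, hSab a ha (-b) (A'.neg_mem hb)]
    abel
  obtain ⟨j, h3, h4, h5, h6⟩ := lag_inverter h2 hQ hO hh hhL hiso hd (S := S)
    (fun x y hxy => by rw [← hSS x, hxy, hSS]) (by
      intro x
      obtain ⟨a, ha, b, hb, rfl⟩ := hdec x
      rw [hSab a ha b hb, map_add, map_sub, add_comm (h a), hSab _ (hhA' b hb) _ (hhA a ha)]
      abel) (by
      intro x hx
      obtain ⟨a, ha, b, hb, rfl⟩ := Submodule.mem_sup.1 hx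
      rw [hSab a (hL₁A ha) b (hL₂A hb)]
      exact L.sub_mem (Submodule.mem_sup_left ha) (Submodule.mem_sup_right hb))
  exact ⟨j, spin Q ⟨h, hO⟩, h3, h4, h6, h, hO, hh, hc, h5, rfl⟩

end forms

end Cfsg.Agent.H4.SR
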