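import Cfsg.Agent.H4.SR.Sum

/-!
# Inverting involutions from Gram data

* `exists_gram` : an involution `τ` of the index set of a spanning family multiplying the Gram data by `ε`
  gives a linear involution;
* `inverter_cyc`, `inverter_pair` : the inverting involutions of a cyclic space and of a pair.
-/

set_option autoImplicit false

namespace Cfsg.Agent.H4.SR

open Module Cfsg.Agent.H721.SR

variable {F V : Type*} [Field F] [AddCommGroup V] [Module F V]

theorem exists_gram {I : Type*} {B : V →ₗ[F] V →ₗ[F] F} (hnd : ∀ x, (∀ y, B x y = 0) → x = 0) (ε : F)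
    {u : I → V} (hu : Submodule.span F (Set.range u) = ⊤) {τ : I → I} (hτ : ∀ i, τ (τ i) = i)
    (hB : ∀ i j, B (u (τ i)) (u (τ j)) = ε * B (u i) (u j)) :
    ∃ h : V ≃ₗ[F] V, h * h = 1 ∧ (∀ i, h (u i) = u (τ i)) ∧ ∀ x y, B (h x) (h y) = ε * B x y := by
  classical
  let φ : (I →₀ F) →ₗ[F] V := Finsupp.linearCombination F u
  let φ' : (I →₀ F) →ₗ[F] V := Finsupp.linearCombination F (fun i => u (τ i))
  have hφ : Function.Surjective φ := by
    rw [← LinearMap.range_eq_top, Finsupp.range_linearCombination, hu]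
  have hadj : ∀ (p : I →₀ F) (j : I), B (φ' p) (u j) = ε * B (φ p) (u (τ j)) := by
    intro p j
    change (B.flip (u j)) (Finsupp.linearCombination F (fun i => u (τ i)) p) =
      ε * (B.flip (u (τ j))) (Finsupp.linearCombination F u p)
    rw [Finsupp.linearCombination_apply, Finsupp.linearCombination_apply, Finsupp.sum, Finsupp.sum, map_sum, map_sum,
      Finset.mul_sum]
    apply Finset.sum_congr rfl
    intro i _
    rw [map_smul, map_smul, LinearMap.flip_apply, LinearMap.flip_apply]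
    have h1 := hB i (τ j)
    rw [hτ] at h1
    rw [h1, smul_eq_mul, smul_eq_mul]
    ring
  have hzero : ∀ x : V, (∀ j, B x (u j) = 0) → x = 0 := by
    intro x hx
    apply hnd
    intro y
    have h1 : B x = 0 := LinearMap.ext_on hu (by rintro _ ⟨j, rfl⟩; exact hx j)
    rw [h1, LinearMap.zero_apply]
  have hker : ∀ p, φ p = 0 → φ' p = 0 := by
    intro p hp
    apply hzero
    intro j
    rw [hadj, hp, map_zero, LinearMap.zero_apply, mul_zero]
  obtain ⟨ψ, hψ⟩ := LinearMap.exists_rightInverse_of_surjective φ (LinearMap.range_eq_top.2 hφ)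
  let h₀ : V →ₗ[F] V := φ' ∘ₗ ψ
  have h₀φ : ∀ p, h₀ (φ p) = φ' p := by
    intro p
    have h1 : φ (ψ (φ p) - p) = 0 := by
      rw [map_sub, sub_eq_zero]
      exact LinearMap.congr_fun hψ (φ p)
    have h2 := hker _ h1
    rw [map_sub, sub_eq_zero] at h2
    exact h2
  have h₀u : ∀ i, h₀ (u i) = u (τ i) := by
    intro i
    have h1 : φ (Finsupp.single i 1) = u i := by
      change Finsupp.linearCombination F u (Finsupp.single i 1) = u i
      rw [Finsupp.linearCombination_single, one_smul]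
    have h2 : φ' (Finsupp.single i 1) = u (τ i) := by
      change Finsupp.linearCombination F (fun i => u (τ i)) (Finsupp.single i 1) = u (τ i)
      rw [Finsupp.linearCombination_single, one_smul]
    rw [← h1, h₀φ, h2]
  have hsq : ∀ x, h₀ (h₀ x) = x := by
    have : h₀ ∘ₗ h₀ = LinearMap.id := LinearMap.ext_on hu (by
      rintro _ ⟨i, rfl⟩
      change h₀ (h₀ (u i)) = u i
      rw [h₀u, h₀u, hτ])
    exact fun x => LinearMap.congr_fun this x
  refine ⟨LinearEquiv.ofInvolutive h₀ hsq, ?_, h₀u, ?_⟩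
  · ext x
    exact hsq x
  · have h1 : ∀ i, ∀ y, B (h₀ (u i)) (h₀ y) = ε * B (u i) y := by
      intro i y
      have : (B (h₀ (u i))) ∘ₗ h₀ = ε • B (u i) := LinearMap.ext_on hu (by
        rintro _ ⟨j, rfl⟩
        change B (h₀ (u i)) (h₀ (u j)) = ε * B (u i) (u j)
        rw [h₀u, h₀u, hB])
      exact LinearMap.congr_fun this y
    intro x y
    change B (h₀ x) (h₀ y) = ε * B x y
    have : ((B.flip (h₀ y)) ∘ₗ h₀) = ε • B.flip y := LinearMap.ext_on hu (by
      rintro _ ⟨i, rfl⟩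
      exact h1 i y)
    exact LinearMap.congr_fun this x

theorem isom_zpow {B : V →ₗ[F] V →ₗ[F] F} {g : V ≃ₗ[F] V} (hg : ∀ x y, B (g x) (g y) = B x y) (m : ℤ) (x y : V) :
    B ((g ^ m) x) ((g ^ m) y) = B x y := by
  have hnat : ∀ (n : ℕ) (x y : V), B ((g ^ n) x) ((g ^ n) y) = B x y := by
    intro n
    induction n with
    | zero => intro x y; rfl
    | succ n ih =>
      intro x y
      rw [pow_succ']
      change B (g ((g ^ n) x)) (g ((g ^ n) y)) = _
      rw [hg, ih]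
  rcases m with n | n
  · have e2 : g ^ (Int.ofNat n) = g ^ n := zpow_natCast _ _
    rw [e2]
    exact hnat n x y
  · rw [zpow_negSucc]
    have h1 := hnat (n + 1) ((g ^ (n + 1))⁻¹ x) ((g ^ (n + 1))⁻¹ y)
    have h2 : ∀ z, (g ^ (n + 1)) ((g ^ (n + 1))⁻¹ z) = z := fun z => (g ^ (n + 1)).apply_symm_apply z
    rw [h2, h2] at h1
    exact h1.symm

/-- the inversion of exponents -/
theorem isom_swap {B : V →ₗ[F] V →ₗ[F] F} {g : V ≃ₗ[F] V} (hg : ∀ x y, B (g x) (g y) = B x y) (i j : ℤ) (x y : V) :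
    B ((g ^ (-i)) x) ((g ^ (-j)) y) = B ((g ^ j) x) ((g ^ i) y) := by
  rw [← isom_zpow hg (i + j), ← zpow_add_apply, ← zpow_add_apply]
  congr 3
  · congr 2
    ring
  · congr 1
    ring

/-- an isomorphism inverting `g` on a spanning family -/
theorem inverts_of_span {I : Type*} {u : I → V} (hu : Submodule.span F (Set.range u) = ⊤) {g h : V ≃ₗ[F] V}
    (H : ∀ i, h (g (u i)) = g⁻¹ (h (u i))) : h * g * h⁻¹ = g⁻¹ := by
  have h1 : h * g = g⁻¹ * h := by
    apply LinearEquiv.toLinearMap_injective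
    apply LinearMap.ext_on hu
    rintro _ ⟨i, rfl⟩
    exact H i
  rw [h1, mul_inv_cancel_right]

theorem inv_zpow_apply (g : V ≃ₗ[F] V) (i : ℤ) (v : V) : g⁻¹ ((g ^ (-i)) v) = (g ^ (-(1 + i))) v := by
  have h : g⁻¹ ((g ^ (-i)) v) = (g⁻¹ * g ^ (-i)) v := rfl
  rw [h]
  congr 1
  group

/-- **cyclic spaces** -/
theorem inverter_cyc {B : V →ₗ[F] V →ₗ[F] F} {ε : F} {g : V ≃ₗ[F] V} (hS : St B ε g) {v : V} (hv : cyc g v = ⊤) :
    ∃ h : V ≃ₗ[F] V, h * h = 1 ∧ h * g * h⁻¹ = g⁻¹ ∧ (∀ x y, B (h x) (h y) = ε * B x y) ∧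
      ∀ i : ℤ, h ((g ^ i) v) = (g ^ (-i)) v := by
  obtain ⟨h, h1, h2, h3⟩ := exists_gram hS.nondeg ε (u := fun i : ℤ => (g ^ i) v) hv (τ := fun i => -i)
    (fun i => neg_neg i) (by
      intro i j
      rw [isom_swap hS.isom]
      exact hS.symm _ _)
  refine ⟨h, h1, inverts_of_span hv fun i => ?_, h3, h2⟩
  have h4 : h ((g ^ i) v) = (g ^ (-i)) v := h2 i
  change h (g ((g ^ i) v)) = g⁻¹ (h ((g ^ i) v))
  rw [← zpow_one_add_apply, h4, inv_zpow_apply]
  exact h2 (1 + i)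

/-- **pairs** -/
theorem inverter_pair {B : V →ₗ[F] V →ₗ[F] F} {ε : F} {g : V ≃ₗ[F] V} (hS : St B ε g) {v w : V}
    (hv : Iso0 B (cyc g v)) (hw : Iso0 B (cyc g w)) (htop : cyc g v ⊔ cyc g w = ⊤) :
    ∃ h : V ≃ₗ[F] V, h * h = 1 ∧ h * g * h⁻¹ = g⁻¹ ∧ (∀ x y, B (h x) (h y) = ε * B x y) ∧
      (∀ i : ℤ, h ((g ^ i) v) = (g ^ (-i)) w) ∧ ∀ i : ℤ, h ((g ^ i) w) = (g ^ (-i)) v := by
  let u : ℤ ⊕ ℤ → V := Sum.elim (fun i => (g ^ i) v) (fun i => (g ^ i) w)
  have hspan : Submodule.span F (Set.range u) = ⊤ := by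
    rw [Set.Sum.elim_range, Submodule.span_union]
    exact htop
  let τ : ℤ ⊕ ℤ → ℤ ⊕ ℤ := Sum.elim (fun i => Sum.inr (-i)) (fun i => Sum.inl (-i))
  obtain ⟨h, h1, h2, h3⟩ := exists_gram hS.nondeg ε (u := u) hspan (τ := τ)
    (by
      rintro (i | i)
      · change Sum.inl (- -i) = Sum.inl i; rw [neg_neg]
      · change Sum.inr (- -i) = Sum.inr i; rw [neg_neg]) (by
      rintro (i | i) (j | j)
      · change B ((g ^ (-i)) w) ((g ^ (-j)) w) = ε * B ((g ^ i) v) ((g ^ j) v)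
        rw [hw _ (zpow_mem_cyc g w _) _ (zpow_mem_cyc g w _), hv _ (zpow_mem_cyc g v _) _ (zpow_mem_cyc g v _), mul_zero]
      · change B ((g ^ (-i)) w) ((g ^ (-j)) v) = ε * B ((g ^ i) v) ((g ^ j) w)
        rw [isom_swap hS.isom]
        exact hS.symm _ _
      · change B ((g ^ (-i)) v) ((g ^ (-j)) w) = ε * B ((g ^ i) w) ((g ^ j) v)
        rw [isom_swap hS.isom]
        exact hS.symm _ _
      · change B ((g ^ (-i)) v) ((g ^ (-j)) v) = ε * B ((g ^ i) w) ((g ^ j) w)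
        rw [hw _ (zpow_mem_cyc g w _) _ (zpow_mem_cyc g w _), hv _ (zpow_mem_cyc g v _) _ (zpow_mem_cyc g v _), mul_zero])
  have hl : ∀ i : ℤ, h ((g ^ i) v) = (g ^ (-i)) w := fun i => h2 (Sum.inl i)
  have hr : ∀ i : ℤ, h ((g ^ i) w) = (g ^ (-i)) v := fun i => h2 (Sum.inr i)
  refine ⟨h, h1, inverts_of_span hspan ?_, h3, hl, hr⟩
  rintro (i | i)
  · change h (g ((g ^ i) v)) = g⁻¹ (h ((g ^ i) v))
    rw [← zpow_one_add_apply, hl, hl, inv_zpow_apply]
  · change h (g ((g ^ i) w)) = g⁻¹ (h ((g ^ i) w))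
    rw [← zpow_one_add_apply, hr, hr, inv_zpow_apply]

end Cfsg.Agent.H4.SR
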