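import Cfsg.Agent.H853.SR.Bridge
import Cfsg.Agent.H4.SR.EPiece

/-!
# The hypothesis `HypE` (E pieces)
-/

set_option autoImplicit false

namespace Cfsg.Agent.H4.SR

open Module QuadraticMap Polynomial
open Cfsg.Agent.LieClassical.OrthCore Cfsg.Agent.H160.QSpin Cfsg.Agent.H160.QDisc Cfsg.Agent.H160.QSplit
open Cfsg.Agent.H721.SR

universe u v

variable {F : Type u} [Field F]

theorem not_dvd_sq_sub_one {f : F[X]} (hf : Irreducible f) (h1 : ¬ Associated f (X - 1)) (h2 : ¬ Associated f (X + 1)) :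
    ¬ f ∣ X ^ 2 - 1 := by
  intro h
  have h3 : (X ^ 2 - 1 : F[X]) = (X - 1) * (X + 1) := by ring
  rw [h3] at h
  have i1 : Irreducible (X - 1 : F[X]) := by
    have := irreducible_X_sub_C (1 : F)
    rwa [C_1] at this
  have i2 : Irreducible (X + 1 : F[X]) := by
    have := irreducible_X_sub_C (-1 : F)
    rwa [C_neg, C_1, sub_neg_eq_add] at this
  rcases hf.prime.dvd_or_dvd h with h4 | h4
  · exact h1 (hf.associated_of_dvd i1 h4)
  · exact h2 (hf.associated_of_dvd i2 h4)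

theorem qc_neg_one [Fintype F] [DecidableEq F] (h2 : (2 : F) ≠ 0) :
    quadraticChar F (-1) = ((H853.SR.ch F : ℤˣ) : ℤ) := by
  unfold H853.SR.ch
  have h : (-1 : F) ≠ 0 := neg_ne_zero.2 one_ne_zero
  split_ifs with hs
  · rw [(quadraticChar_one_iff_isSquare h).2 hs]; rfl
  · rw [quadraticChar_neg_one_iff_not_isSquare.2 hs]; rfl

/-- **E pieces** -/
theorem hypE [Fintype F] [DecidableEq F] (h2 : (2 : F) ≠ 0) : H853.SR.HypE.{u, v} F := by
  intro V _ _ _ _ Q g f k hQ hg hk h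
  have key : ∃ (j : ℕ) (s : ℤˣ), finrank F V = 4 * j ∧ dc Q = 1 ∧ (s : ℤ) = quadraticChar F (-1) ^ j ∧
      T Q g 1 s := by
    rcases h with ⟨v, hp, htop, -, h3, h4⟩ | ⟨v, w, hp, htop, -⟩
    · exact epiece_cyc h2 hQ hg hp htop (not_dvd_sq_sub_one hp.irr h3 h4) hk
    · exact epiece_pair h2 hQ hg hp htop hk
  obtain ⟨j, s, h3, h4, h5, h6⟩ := key
  refine ⟨j, h3, h4, ?_⟩
  have h7 : s = H853.SR.ch F ^ j := by
    apply Units.ext
    rw [h5, qc_neg_one h2, Units.val_pow_eq_pow_val]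
  rwa [← h7]

end Cfsg.Agent.H4.SR
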