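import Cfsg.Agent.H4.SR.Gram
import Cfsg.Agent.H1.EightA

/-!
# Involutions with an invariant lagrangian subspace

* `dc_lag` : the class of a space with a lagrangian subspace;
* `lag_inverter` : determinant and spinor sign of an isometric involution with an invariant lagrangian subspace and an
  anticommuting automorphism.
-/

set_option autoImplicit false

namespace Cfsg.Agent.H4.SR

open Module QuadraticMap
open Cfsg.Agent.LieClassical.OrthCore Cfsg.Agent.H160.QSpin Cfsg.Agent.H160.QDisc Cfsg.Agent.H160.QSplit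
open Cfsg.Agent.H721.SR

variable {F V : Type*} [Field F] [AddCommGroup V] [Module F V] [FiniteDimensional F V]

/-- the class of a space with a lagrangian subspace -/
theorem dc_lag [Fintype F] [DecidableEq F] {Q : QuadraticForm F V} (hQ : Nondeg Q) {m : ℕ}
    (hm : finrank F V = 2 * m) {L : Submodule F V} (hL : finrank F L = m)
    (hiso : ∀ x ∈ L, ∀ y ∈ L, polar Q x y = 0) : dc Q = quadraticChar F (-1) ^ m := by
  obtain ⟨s, hs⟩ := ClassicalGeometry.Discriminant.det_of_isotropic_half (polarBilin Q) (isSymm_bilin Q) m hm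
    (finBasis F V) L hL hiso
  have h1 : gdet Q = (-1) ^ m * s ^ 2 := hs
  have h2 : s ≠ 0 := by
    rintro rfl
    apply gdet_ne hQ
    rw [h1]
    ring
  unfold dc
  rw [h1, mul_comm, qc_sq_mul h2, map_pow]

theorem fixed_of_sq {h : V ≃ₗ[F] V} (hh : h * h = 1) (x : V) : h (h x) = x := by
  have : (h * h) x = x := by rw [hh]; rfl
  exact this

/-- **involutions with an invariant lagrangian subspace** -/
theorem lag_inverter [Finite V] [Fintype F] [DecidableEq F] (h2 : (2 : F) ≠ 0) {Q : QuadraticForm F V}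
    (hQ : Nondeg Q) {h : V ≃ₗ[F] V} (hO : h ∈ O Q) (hh : h * h = 1) {L : Submodule F V} (hL : ∀ x ∈ L, h x ∈ L)
    (hiso : ∀ x ∈ L, ∀ y ∈ L, polar Q x y = 0) (hd : 2 * finrank F L = finrank F V) {S : Module.End F V}
    (hS : Function.Injective S) (hSh : ∀ x, S (h x) = -(h (S x))) (hSL : ∀ x ∈ L, S x ∈ L) :
    ∃ j : ℕ, finrank F V = 4 * j ∧ dc Q = 1 ∧ LinearEquiv.det h = 1 ∧
      ((spin Q ⟨h, hO⟩ : ℤˣ) : ℤ) = quadraticChar F (-1) ^ j := by
  have hx : ∀ x, h (h x) = x := fixed_of_sq hh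
  set Vp : Submodule F V := H1.EightA.Ei (h : Module.End F V) false with hVp
  set Vm : Submodule F V := H1.EightA.Ei (h : Module.End F V) true with hVm
  have mp : ∀ {x}, x ∈ Vp ↔ h x = x := by
    intro x
    rw [hVp, H1.EightA.mem_Ei]
    simp [H1.EightA.sg]
  have mm : ∀ {x}, x ∈ Vm ↔ h x = -x := by
    intro x
    rw [hVm, H1.EightA.mem_Ei]
    simp [H1.EightA.sg]
  -- dimensions
  have s1 := H1.EightA.split h2 (⊤ : Submodule F V) (T := (h : Module.End F V)) hx (fun _ _ => trivial)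
  rw [top_inf_eq, top_inf_eq, finrank_top] at s1
  have s2 := H1.EightA.split h2 L (T := (h : Module.End F V)) hx hL
  have e1 : finrank F Vp ≤ finrank F Vm := by
    apply H1.EightA.finrank_le_of_map S hS
    intro x hx'
    rw [mm]
    have h4 := hSh x
    rw [mp.1 hx'] at h4
    exact (neg_eq_iff_eq_neg.2 h4).symm
  have e2 : finrank F Vm ≤ finrank F Vp := by
    apply H1.EightA.finrank_le_of_map S hS
    intro x hx'
    rw [mp]
    have h4 := hSh x
    rw [mm.1 hx', map_neg] at h4
    exact (neg_injective h4).symm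
  have e3 : finrank F (L ⊓ Vp : Submodule F V) ≤ finrank F (L ⊓ Vm : Submodule F V) := by
    apply H1.EightA.finrank_le_of_map S hS
    rintro x ⟨hx1, hx2⟩
    refine ⟨hSL x hx1, mm.2 ?_⟩
    have h4 := hSh x
    rw [mp.1 hx2] at h4
    exact (neg_eq_iff_eq_neg.2 h4).symm
  have e4 : finrank F (L ⊓ Vm : Submodule F V) ≤ finrank F (L ⊓ Vp : Submodule F V) := by
    apply H1.EightA.finrank_le_of_map S hS
    rintro x ⟨hx1, hx2⟩
    refine ⟨hSL x hx1, mp.2 ?_⟩
    have h4 := hSh x
    rw [mm.1 hx2, map_neg] at h4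
    exact (neg_injective h4).symm
  set j := finrank F (L ⊓ Vm : Submodule F V) with hj
  have hVmj : finrank F Vm = 2 * j := by
    change _ = finrank F Vp + finrank F Vm at s1
    change _ = finrank F (L ⊓ Vp : Submodule F V) + finrank F (L ⊓ Vm : Submodule F V) at s2
    omega
  have hVj : finrank F V = 4 * j := by
    change _ = finrank F Vp + finrank F Vm at s1
    omega
  have hLj : finrank F L = 2 * j := by omega
  -- the decomposition
  have hcompl : IsCompl Vp Vm := by
    constructor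
    · rw [Submodule.disjoint_def]
      intro x hx1 hx2
      have h4 := mp.1 hx1
      rw [mm.1 hx2] at h4
      have h5 : (2 : F) • x = 0 := by
        rw [two_smul]
        nth_rw 1 [← h4]
        rw [neg_add_cancel]
      exact (smul_eq_zero.1 h5).resolve_left h2
    · rw [codisjoint_iff, eq_top_iff]
      intro x _
      have h4 : x = (2 : F)⁻¹ • (x + h x) + (2 : F)⁻¹ • (x - h x) := by
        rw [← smul_add, add_add_sub_cancel, ← two_smul F x, smul_smul, inv_mul_cancel₀ h2, one_smul]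
      rw [h4]
      refine Submodule.add_mem_sup ?_ ?_
      · rw [mp, map_smul, map_add, hx, add_comm]
      · rw [mm, map_smul, map_sub, hx, ← smul_neg, neg_sub]
  have hort : ∀ x ∈ Vp, ∀ y ∈ Vm, polar Q x y = 0 := by
    intro x hx1 y hy1
    have h4 := polar_map hO x y
    rw [mp.1 hx1, mm.1 hy1, polar_neg_right] at h4
    have h5 : (2 : F) * polar Q x y = 0 := by linear_combination -h4
    exact (mul_eq_zero.1 h5).resolve_left h2
  obtain ⟨h₁, h₂, e, he, hge, hh₁, hh₂⟩ := split_of_compl (Q := Q) (g := h) hcompl hort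
    (fun x hx' => by rw [mp.1 hx']; exact hx') (fun x hx' => by rw [mm.1 hx']; exact Vm.neg_mem hx')
  have hh₁' : h₁ = 1 := by
    ext x
    rw [hh₁]
    exact mp.1 x.2
  have hh₂' : h₂ = LinearEquiv.neg F := by
    ext x
    rw [hh₂]
    exact mm.1 x.2
  subst hh₁' hh₂'
  have hnp : Nondeg ((rs Q Vp).prod (rs Q Vm)) := he.symm.nondeg hQ
  obtain ⟨hn₁, hn₂⟩ := nondeg_of_prod hnp
  refine ⟨j, hVj, ?_, ?_, ?_⟩
  · rw [dc_lag hQ (m := 2 * j) (by omega) hLj hiso, pow_mul]
    have h4 : quadraticChar F (-1) ^ 2 = 1 := quadraticChar_sq_one (neg_ne_zero.2 one_ne_zero)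
    rw [h4, one_pow]
  · rw [hge, det_cj, det_pr, map_one, one_mul, det_neg, hVmj, pow_mul]
    simp
  · have h4 : (⟨h, hO⟩ : O Q) = ⟨cj e (pr 1 (LinearEquiv.neg F)),
        cj_mem_O he (pr_mem_O (O (rs Q Vp)).one_mem (neg_mem_O (rs Q Vm)))⟩ := Subtype.ext hge
    rw [h4, spin_cj he (pr_mem_O (O (rs Q Vp)).one_mem (neg_mem_O (rs Q Vm))),
      spin_pr_right h2 hn₂ (neg_mem_O (rs Q Vm)), spin_neg_one h2 hn₂ ⟨j, by rw [hVmj]; ring⟩]
    refine dc_lag hn₂ (m := j) hVmj (L := L.comap Vm.subtype) ?_ ?_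
    · rw [← Submodule.finrank_map_subtype_eq, Submodule.map_comap_subtype, inf_comm]
    · intro x hx1 y hy1
      exact hiso _ hx1 _ hy1

end Cfsg.Agent.H4.SR
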